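import Mathlib
import Cfsg.Agent.Lib.Helper25.InvDefs
import Cfsg.Agent.Lib.Helper8.BN3
import Cfsg.Agent.Lib.Helper75.CoxR
import Cfsg.Agent.Lib.Helper21.InvIB
import Cfsg.Agent.Lib.Helper28.InvIC
import Cfsg.Agent.Lib.Helper57.InvIG
import Cfsg.Agent.Lib.Helper69.InvIF

/-!
# Involution classes, piece IU: in a maximal cell the unipotent part is trivial
-/

set_option autoImplicit false

namespace Cfsg.Agent.Lib.Helper25

open Cfsg Cfsg.Agent.Lib.Helper8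

section Abstract

variable {G : Type*} [Group G]

/-- IU -/
theorem inv_u_eq_one [Finite G] (P : BNPair G) (U H : Subgroup G) (hUB : U ≤ P.B)
    (hUc : ∀ u ∈ U, ∀ g : G, g * u * g⁻¹ ∈ P.B → g * u * g⁻¹ ∈ U)
    (hUN : ∀ u ∈ U, u ∈ P.N → u = 1) (hHN : H ≤ P.N)
    (h0 : ∃ n₀ : P.N, (∀ x : G, x ∈ H ↔ x ∈ P.B ∧ (n₀ : G)⁻¹ * x * (n₀ : G) ∈ P.B) ∧
      ∀ w : W P, NoRAsc (SW P) w ↔ w = cl P n₀)
    (t : G) (ht : t * t = 1) (g u : G) (n : P.N) (hu : u ∈ U)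
    (hg : g * t * g⁻¹ = u * (n : G)) (hmax : MaxCell P t n) : u = 1 := by
  obtain ⟨n₀, hH, hn₀⟩ := h0
  -- the conjugate is an involution
  have h2 : (u * (n : G)) * (u * (n : G)) = 1 := by
    rw [← hg]
    have e : g * t * g⁻¹ * (g * t * g⁻¹) = g * (t * t) * g⁻¹ := by group
    rw [e, ht, mul_one, mul_inv_cancel]
  obtain ⟨-, -, hnu⟩ := inv_normal_form P U hUB hUc hUN u hu n h2
  have hgdc : g * t * g⁻¹ ∈ dc P (n : G) := by
    rw [hg, ← dc_mul_left (hUB hu) (n : G)]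
    exact mem_dc_self P _
  obtain ⟨hww, hdich⟩ := inv_cell_dichotomy P t ht n g hgdc hmax
  have hwinv : (cl P n)⁻¹ = cl P n := inv_eq_of_mul_eq_one_left hww
  -- commuting ascents
  have hcomm : ∀ (σ : G) (hσ : σ ∈ P.S),
      len (SW P) (cl P n) < len (SW P) (cl P (sN P hσ) * cl P n) →
      cl P (sN P hσ) * cl P n = cl P n * cl P (sN P hσ) := by
    intro σ hσ hasc
    rcases hdich _ (mem_SW P hσ) with h | h
    · exfalso
      have hsinv : (cl P (sN P hσ))⁻¹ = cl P (sN P hσ) :=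
        inv_eq_of_mul_eq_one_left (cl_sN_sq P hσ)
      have e : (cl P (sN P hσ) * cl P n)⁻¹ = cl P n * cl P (sN P hσ) := by
        rw [mul_inv_rev, hwinv, hsinv]
      have h3 := coxr_len_inv (SW_invGen P) (cl P (sN P hσ) * cl P n)
      rw [e] at h3
      omega
    · exact h
  -- the element `x`
  obtain ⟨x, hx, hxw, hxasc⟩ := inv_noRAsc (SW_exchGen P) (cl P n) hww hdich
  have hwx : cl P n * x = cl P n₀ := (hn₀ _).mp hxasc
  have hsub : {s | s ∈ SW P ∧ len (SW P) (cl P n) < len (SW P) (s * cl P n)} ⊆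
      SWJ P (AscSet P (cl P n)) := by
    rintro s ⟨⟨σ, hσ, rfl⟩, hlt⟩
    exact mem_SWJ P hσ ⟨hσ, hlt⟩
  have hx' : x ∈ Subgroup.closure (SWJ P (AscSet P (cl P n))) := Subgroup.closure_mono hsub hx
  obtain ⟨nx, rfl⟩ := QuotientGroup.mk_surjective x
  obtain ⟨m, hm, hmB⟩ := exists_rep_of_mem_closure P (n := nx) hx'
  have hmN : m ∈ P.N := closure_S_le_N P (ascSet_subset P (cl P n)) hm
  have hclm : cl P ⟨m, hmN⟩ = cl P nx := cl_eq_iff.mpr hmB
  -- conjugating `u`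
  obtain ⟨hmu, -⟩ := inv_closure_conj P U hUB hUc t n hmax hcomm m hm g u n rfl hu hg
  have hX : (m * (n : G)) * u * (m * (n : G))⁻¹ ∈ U := by
    have e : (m * (n : G)) * u * (m * (n : G))⁻¹ = (m * u * m⁻¹)⁻¹ := by
      have e1 : (m * (n : G)) * u * (m * (n : G))⁻¹ = m * ((n : G) * u * (n : G)⁻¹) * m⁻¹ := by
        group
      rw [e1, hnu]
      group
    rw [e]
    exact U.inv_mem hmu
  -- the class of `m * n`
  have hcl : cl P n₀ = cl P (⟨m, hmN⟩ * n) := by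
    rw [cl_mul, hclm, ← hwx]
    exact hxw.symm
  have hhB : (n₀ : G)⁻¹ * (m * (n : G)) ∈ P.B := cl_eq_iff.mp hcl
  have hXH : (m * (n : G)) * u * (m * (n : G))⁻¹ ∈ H := by
    rw [hH]
    refine ⟨hUB hX, ?_⟩
    have e : (n₀ : G)⁻¹ * ((m * (n : G)) * u * (m * (n : G))⁻¹) * (n₀ : G) =
        ((n₀ : G)⁻¹ * (m * (n : G))) * u * ((n₀ : G)⁻¹ * (m * (n : G)))⁻¹ := by group
    rw [e]
    exact P.B.mul_mem (P.B.mul_mem hhB (hUB hu)) (P.B.inv_mem hhB)
  have hXN := hHN hXH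
  have hmnN : m * (n : G) ∈ P.N := P.N.mul_mem hmN n.2
  apply hUN u hu
  have e : u = (m * (n : G))⁻¹ * ((m * (n : G)) * u * (m * (n : G))⁻¹) * (m * (n : G)) := by group
  rw [e]
  exact P.N.mul_mem (P.N.mul_mem (P.N.inv_mem hmnN) hXN) hmnN

end Abstract

end Cfsg.Agent.Lib.Helper25
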