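import Mathlib
import Cfsg.Agent.Lib.Helper25.StDefs

/-!
# Steinberg project piece P2 "CoxLR" (helper68, for helper25): two-sided minimal representatives
-/

set_option autoImplicit false

namespace Cfsg.Agent.Lib.Helper25

open Cfsg Cfsg.Agent.Lib.Helper8

variable {W : Type*} [Group W] {S J K : Set W}

theorem coxlr_len_inv_le (h : InvGen S) (w : W) : len S w⁻¹ ≤ len S w := by
  obtain ⟨L, hL, hprod, hlen⟩ := h.exists_reduced w
  have h1 := len_le (S := S) (L := L.reverse) (by
    intro x hx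
    exact hL x (List.mem_reverse.1 hx))
  rw [prod_reverse_of_sq h.sq L hL, hprod, List.length_reverse, hlen] at h1
  exact h1

theorem coxlr_len_inv (h : InvGen S) (w : W) : len S w⁻¹ = len S w := by
  apply le_antisymm (coxlr_len_inv_le h w)
  have := coxlr_len_inv_le h w⁻¹
  rwa [inv_inv] at this

theorem coxlr_len_mul_le (h : InvGen S) (a b : W) : len S (a * b) ≤ len S a + len S b := by
  obtain ⟨La, hLa, hpa, hla⟩ := h.exists_reduced a
  obtain ⟨Lb, hLb, hpb, hlb⟩ := h.exists_reduced b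
  have h1 := len_le (S := S) (L := La ++ Lb) (by
    intro x hx
    rcases List.mem_append.1 hx with hx | hx
    · exact hLa x hx
    · exact hLb x hx)
  rw [List.prod_append, hpa, hpb, List.length_append, hla, hlb] at h1
  exact h1

theorem coxlr_inv_eq_self (h : InvGen S) {s : W} (hs : s ∈ S) : s⁻¹ = s :=
  inv_eq_of_mul_eq_one_left (h.sq s hs)

theorem coxlr_len_mul_right_ne (h : ExchGen S) {s : W} (hs : s ∈ S) (w : W) :
    len S (w * s) ≠ len S w := by
  have h1 := h.len_mul_ne hs w⁻¹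
  rw [← coxlr_len_inv h.toInvGen (w * s), mul_inv_rev, coxlr_inv_eq_self h.toInvGen hs,
    ← coxlr_len_inv h.toInvGen w]
  exact h1

theorem coxlr_exists_min (S J K : Set W) (w : W) :
    ∃ u ∈ Subgroup.closure J, ∃ v ∈ Subgroup.closure K,
      ∀ u' ∈ Subgroup.closure J, ∀ v' ∈ Subgroup.closure K,
        len S (u * w * v) ≤ len S (u' * w * v') := by
  classical
  have hne : ∃ k, ∃ u ∈ Subgroup.closure J, ∃ v ∈ Subgroup.closure K, len S (u * w * v) = k :=
    ⟨_, 1, Subgroup.one_mem _, 1, Subgroup.one_mem _, rfl⟩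
  obtain ⟨u, hu, v, hv, huv⟩ := Nat.find_spec hne
  refine ⟨u, hu, v, hv, ?_⟩
  intro u' hu' v' hv'
  rw [huv]
  exact Nat.find_min' hne ⟨u', hu', v', hv', rfl⟩

theorem exists_lrmin (h : ExchGen S) (hJ : J ⊆ S) (hK : K ⊆ S) (w : W) : ∃ u ∈ Subgroup.closure J, ∃ v ∈ Subgroup.closure K, LMin S J (u * w * v) ∧ RMin S K (u * w * v) := by
  obtain ⟨u, hu, v, hv, hmin⟩ := coxlr_exists_min S J K w
  refine ⟨u, hu, v, hv, ?_, ?_⟩
  · intro s hs
    have h1 := hmin (s * u) (Subgroup.mul_mem _ (Subgroup.subset_closure hs) hu) v hv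
    have h2 := h.len_mul_ne (hJ hs) (u * w * v)
    have h3 : s * u * w * v = s * (u * w * v) := by group
    rw [h3] at h1
    omega
  · intro s hs
    have h1 := hmin u hu (v * s) (Subgroup.mul_mem _ hv (Subgroup.subset_closure hs))
    have h2 := coxlr_len_mul_right_ne h (hK hs) (u * w * v)
    have h3 : u * w * (v * s) = u * w * v * s := by group
    rw [h3] at h1
    omega

theorem coxlr_factor (h : ExchGen S) (hJ : J ⊆ S) (hK : K ⊆ S) {w1 : W}
    (hmin : ∀ u ∈ Subgroup.closure J, ∀ v ∈ Subgroup.closure K, len S w1 ≤ len S (u * w1 * v))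
    {u v : W} (hu : u ∈ Subgroup.closure J) (hv : v ∈ Subgroup.closure K) :
    ∃ u' ∈ Subgroup.closure J, ∃ v' ∈ Subgroup.closure K, u' * w1 * v' = u * w1 * v ∧
      len S (u' * w1 * v') = len S u' + len S w1 + len S v' := by
  obtain ⟨X, hX, hXp, hXl⟩ := h.exists_reduced_word_in hJ hu
  obtain ⟨A, hA, hAp, hAl⟩ := h.toInvGen.exists_reduced w1
  obtain ⟨Y, hY, hYp, hYl⟩ := h.exists_reduced_word_in hK hv
  have hLS : ∀ x ∈ X ++ A ++ Y, x ∈ S := by
    intro x hx
    rcases List.mem_append.1 hx with hx | hx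
    · rcases List.mem_append.1 hx with hx | hx
      · exact hJ (hX x hx)
      · exact hA x hx
    · exact hK (hY x hx)
  obtain ⟨L', hsub, hprod, hlen⟩ := h.exists_reduced_sublist (X ++ A ++ Y) hLS
  obtain ⟨XA', Y', rfl, hXA', hY'⟩ := List.sublist_append_iff.1 hsub
  obtain ⟨X', A', rfl, hX', hA'⟩ := List.sublist_append_iff.1 hXA'
  have hLp : (X ++ A ++ Y).prod = u * w1 * v := by
    rw [List.prod_append, List.prod_append, hXp, hAp, hYp]
  rw [hLp] at hprod hlen
  rw [List.prod_append, List.prod_append] at hprod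
  rw [List.length_append, List.length_append] at hlen
  have hX'J : ∀ x ∈ X', x ∈ J := fun x hx => hX x (hX'.subset hx)
  have hY'K : ∀ x ∈ Y', x ∈ K := fun x hx => hY x (hY'.subset hx)
  have hA'S : ∀ x ∈ A', x ∈ S := fun x hx => hA x (hA'.subset hx)
  have hu' : X'.prod ∈ Subgroup.closure J := prod_mem_closure hX'J
  have hv' : Y'.prod ∈ Subgroup.closure K := prod_mem_closure hY'K
  have hA'eq : A'.prod = (X'.prod⁻¹ * u) * w1 * (v * Y'.prod⁻¹) := by
    have e : A'.prod = X'.prod⁻¹ * (X'.prod * A'.prod * Y'.prod) * Y'.prod⁻¹ := by group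
    rw [e, hprod]
    group
  have h1 : len S w1 ≤ len S A'.prod := by
    rw [hA'eq]
    exact hmin _ (Subgroup.mul_mem _ (Subgroup.inv_mem _ hu') hu) _
      (Subgroup.mul_mem _ hv (Subgroup.inv_mem _ hv'))
  have h2 : len S A'.prod ≤ A'.length := len_le hA'S
  have h3 : A'.length ≤ A.length := hA'.length_le
  have hAA : A' = A := hA'.eq_of_length (by omega)
  rw [hAA] at hprod hlen
  rw [hAp] at hprod
  refine ⟨X'.prod, hu', Y'.prod, hv', hprod, ?_⟩
  have h4 : len S X'.prod ≤ X'.length := len_le (fun x hx => hJ (hX'J x hx))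
  have h5 : len S Y'.prod ≤ Y'.length := len_le (fun x hx => hK (hY'K x hx))
  have h6 := coxlr_len_mul_le h.toInvGen (X'.prod * w1) Y'.prod
  have h7 := coxlr_len_mul_le h.toInvGen X'.prod w1
  rw [hprod] at h6 ⊢
  omega

theorem coxlr_claim (h : ExchGen S) (hJ : J ⊆ S) (hK : K ⊆ S) {w1 : W}
    (hmin : ∀ u ∈ Subgroup.closure J, ∀ v ∈ Subgroup.closure K, len S w1 ≤ len S (u * w1 * v))
    {u v : W} (hu : u ∈ Subgroup.closure J) (hv : v ∈ Subgroup.closure K)
    (h1 : LMin S J (u * w1 * v)) (h2 : RMin S K (u * w1 * v)) : u * w1 * v = w1 := by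
  obtain ⟨u', hu', v', hv', heq, hlen⟩ := coxlr_factor h hJ hK hmin hu hv
  rw [← heq] at h1 h2 ⊢
  have hu1 : u' = 1 := by
    by_contra hne
    obtain ⟨X, hX, hXp, hXl⟩ := h.exists_reduced_word_in hJ hu'
    rcases X with _ | ⟨s, X''⟩
    · exact hne (by rw [← hXp]; simp)
    · have hs : s ∈ J := hX s (by simp)
      have hX'' : ∀ x ∈ X'', x ∈ S := fun x hx => hJ (hX x (by simp [hx]))
      have hlt := h1 s hs
      have e1 : s * (u' * w1 * v') = X''.prod * w1 * v' := by
        rw [← hXp, List.prod_cons]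
        have hsq := h.sq s (hJ hs)
        calc s * (s * X''.prod * w1 * v') = (s * s) * X''.prod * w1 * v' := by group
          _ = X''.prod * w1 * v' := by rw [hsq, one_mul]
      rw [e1] at hlt
      have h3 := coxlr_len_mul_le h.toInvGen (X''.prod * w1) v'
      have h4 := coxlr_len_mul_le h.toInvGen X''.prod w1
      have h5 : len S X''.prod ≤ X''.length := len_le hX''
      rw [List.length_cons] at hXl
      omega
  have hv1 : v' = 1 := by
    by_contra hne
    obtain ⟨Y, hY, hYp, hYl⟩ := h.exists_reduced_word_in hK hv'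
    rcases List.eq_nil_or_concat Y with rfl | ⟨Y'', s, rfl⟩
    · exact hne (by rw [← hYp]; simp)
    · rw [List.concat_eq_append] at hY hYp hYl
      have hs : s ∈ K := hY s (by simp)
      have hY'' : ∀ x ∈ Y'', x ∈ S := fun x hx => hK (hY x (by simp [hx]))
      have hlt := h2 s hs
      have e1 : u' * w1 * v' * s = u' * w1 * Y''.prod := by
        rw [← hYp, List.prod_append, List.prod_singleton]
        have hsq := h.sq s (hK hs)
        calc u' * w1 * (Y''.prod * s) * s = u' * w1 * Y''.prod * (s * s) := by group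
          _ = u' * w1 * Y''.prod := by rw [hsq, mul_one]
      rw [e1] at hlt
      have h3 := coxlr_len_mul_le h.toInvGen (u' * w1) Y''.prod
      have h4 := coxlr_len_mul_le h.toInvGen u' w1
      have h5 : len S Y''.prod ≤ Y''.length := len_le hY''
      rw [List.length_append, List.length_singleton] at hYl
      omega
  rw [hu1, hv1, one_mul, mul_one]

theorem lrmin_unique (h : ExchGen S) (hJ : J ⊆ S) (hK : K ⊆ S) {w u v : W} (hw1 : LMin S J w) (hw2 : RMin S K w) (hu : u ∈ Subgroup.closure J) (hv : v ∈ Subgroup.closure K)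
    (h1 : LMin S J (u * w * v)) (h2 : RMin S K (u * w * v)) : u * w * v = w := by
  obtain ⟨u0, hu0, v0, hv0, hmin0⟩ := coxlr_exists_min S J K w
  obtain ⟨w1, hw1def⟩ : ∃ w1, w1 = u0 * w * v0 := ⟨_, rfl⟩
  have hmin : ∀ a ∈ Subgroup.closure J, ∀ b ∈ Subgroup.closure K,
      len S w1 ≤ len S (a * w1 * b) := by
    intro a ha b hb
    have h3 := hmin0 (a * u0) (Subgroup.mul_mem _ ha hu0) (v0 * b) (Subgroup.mul_mem _ hv0 hb)
    have e : a * u0 * w * (v0 * b) = a * w1 * b := by
      rw [hw1def]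
      group
    rw [e, ← hw1def] at h3
    exact h3
  have ew : w = u0⁻¹ * w1 * v0⁻¹ := by
    rw [hw1def]
    group
  have c1 : u0⁻¹ * w1 * v0⁻¹ = w1 := by
    apply coxlr_claim h hJ hK hmin (Subgroup.inv_mem _ hu0) (Subgroup.inv_mem _ hv0)
    · rw [← ew]
      exact hw1
    · rw [← ew]
      exact hw2
  have e2 : u * w * v = (u * u0⁻¹) * w1 * (v0⁻¹ * v) := by
    rw [hw1def]
    group
  have c2 : (u * u0⁻¹) * w1 * (v0⁻¹ * v) = w1 := by
    apply coxlr_claim h hJ hK hmin (Subgroup.mul_mem _ hu (Subgroup.inv_mem _ hu0))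
      (Subgroup.mul_mem _ (Subgroup.inv_mem _ hv0) hv)
    · rw [← e2]
      exact h1
    · rw [← e2]
      exact h2
  rw [e2, c2, ew, c1]

theorem exists_noAsc [Finite W] (h : ExchGen S) : ∃ w : W, NoLAsc S w ∧ NoRAsc S w := by
  obtain ⟨w, hw⟩ := Finite.exists_max (fun w : W => len S w)
  refine ⟨w, ?_, ?_⟩
  · intro s _ hlt
    have h3 : len S (s * w) ≤ len S w := hw (s * w)
    omega
  · intro s _ hlt
    have h3 : len S (w * s) ≤ len S w := hw (w * s)
    omega

end Cfsg.Agent.Lib.Helper25
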