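import Cfsg.Agent.Lib.Helper15.BG13CDefs
import Cfsg.Agent.S0024
import Cfsg.Agent.S0025

/-!
# B&G Corollary 13.3(b) (row S1428, architect helper15): piece C-KB (helper68)
-/

set_option autoImplicit false

open Cfsg Cfsg.Agent.Lib.Helper32 Cfsg.Agent.Lib.Helper32.BG10 Cfsg.Agent.Lib.Helper3.BG12

namespace Cfsg.Agent.Lib.Helper15.BG13C

universe u

variable {G : Type u} [Group G] [Finite G]

theorem kb (hK : KStmt G) : KBStmt G := by
  intro hG H hH p _ hpβ P A₁ A₂ Z r _ hPβ hPcard hA₁H hA₂H hZH hA₁c hA₁A₂ hZA₂ hZcard hZA₁ hfree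
    hA₁P hA₂P hZP hcop₁ hcop₂ hcopr hCyc12 hCycZ
  unfold Cyc at hCyc12 hCycZ ⊢
  obtain ⟨Hβ, hHβ⟩ : ∃ Hβ : Subgroup G, Hβ = piCoreOf (beta H) H := ⟨_, rfl⟩
  rw [← hHβ] at hPβ hcop₁ hcop₂ hcopr hCyc12 hCycZ ⊢
  have hp : p.Prime := Fact.out
  have hr : r.Prime := Fact.out
  have hHβH : Hβ ≤ H := hHβ ▸ piCoreOf_le _ _
  have hHnorm : H ≤ Subgroup.normalizer (Hβ : Set G) := hHβ ▸ le_normalizer_piCoreOf _ _
  have hsolvH : Group.IsSolvable ↥H := minSimple_solvable hG hH.1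
  have hsolv : Group.IsSolvable ↥Hβ :=
    Group.isSolvable_of_isSolvable_injective (Subgroup.inclusion_injective hHβH)
  have hPp : IsPGroup p ↥P := IsPGroup.of_card (n := 1) (by rw [hPcard, pow_one])
  have hpdvd : p ∣ Nat.card ↥Hβ := hPcard ▸ Subgroup.card_dvd_of_le hPβ
  have hcopA₁p : (Nat.card ↥A₁).Coprime p := Nat.Coprime.coprime_dvd_right hpdvd hcop₁
  have hrp : r ≠ p := by
    intro h
    have h1 : r ∣ Nat.card ↥Hβ := h ▸ hpdvd
    have h2 := Nat.Coprime.eq_one_of_dvd hcopr h1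
    exact hr.one_lt.ne' h2
  have hcopZ : (Nat.card ↥Z).Coprime (Nat.card ↥Hβ) := by rw [hZcard]; exact hcopr
  have hA₂A₁ : A₂ ≤ Subgroup.normalizer (A₁ : Set G) :=
    (Subgroup.le_centralizer_iff.1 hA₁A₂).trans (Subgroup.centralizer_le_normalizer _)
  have hcop12 : (Nat.card ↥(A₁ ⊔ A₂)).Coprime (Nat.card ↥Hβ) :=
    Cfsg.Agent.Lib.Helper3.BG13T.coprime_card_sup hA₂A₁ hcop₁ hcop₂
  have hZ12 : Z ≤ Subgroup.normalizer ((A₁ ⊔ A₂ : Subgroup G) : Set G) := by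
    have hZA₂n : Z ≤ Subgroup.normalizer (A₂ : Set G) :=
      hZA₂.trans (Subgroup.centralizer_le_normalizer _)
    intro z hz
    rw [Subgroup.mem_normalizer_iff_map_conj_eq, Subgroup.map_sup,
      Subgroup.mem_normalizer_iff_map_conj_eq.1 (hZA₁ hz),
      Subgroup.mem_normalizer_iff_map_conj_eq.1 (hZA₂n hz)]
  have hcopW : (Nat.card ↥(A₁ ⊔ A₂ ⊔ Z)).Coprime (Nat.card ↥Hβ) :=
    Cfsg.Agent.Lib.Helper3.BG13T.coprime_card_sup hZ12 hcop12 hcopZ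
  have hWH : A₁ ⊔ A₂ ⊔ Z ≤ H := sup_le (sup_le hA₁H hA₂H) hZH
  have hWn : A₁ ⊔ A₂ ⊔ Z ≤ Subgroup.normalizer (Hβ : Set G) := hWH.trans hHnorm
  have hWP : A₁ ⊔ A₂ ⊔ Z ≤ Subgroup.centralizer (P : Set G) := sup_le (sup_le hA₁P hA₂P) hZP
  have hWPn : A₁ ⊔ A₂ ⊔ Z ≤ Subgroup.normalizer (P : Set G) :=
    hWP.trans (Subgroup.centralizer_le_normalizer _)
  obtain ⟨Sy, hPS, hWS⟩ := Cfsg.Agent.S0025.result (A₁ ⊔ A₂ ⊔ Z) Hβ hWn hcopW (Or.inr hsolv) p P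
    hPβ hPp hWPn
  obtain ⟨S, hSdef⟩ : ∃ S : Subgroup G, S = (Sy : Subgroup ↥Hβ).map Hβ.subtype := ⟨_, rfl⟩
  rw [← hSdef] at hPS hWS
  have hSp : IsPGroup p ↥S := by
    rw [hSdef]; exact Sy.isPGroup'.map _
  have hSHβ : S ≤ Hβ := by
    rw [hSdef]; exact Subgroup.map_subtype_le _
  have hA₁S : A₁ ≤ Subgroup.normalizer (S : Set G) := (le_sup_left.trans le_sup_left).trans hWS
  have hA₂S : A₂ ≤ Subgroup.normalizer (S : Set G) := (le_sup_right.trans le_sup_left).trans hWS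
  have hZS : Z ≤ Subgroup.normalizer (S : Set G) := le_sup_right.trans hWS
  have hA₁S0 : A₁ ≤ Subgroup.normalizer
      ((S ⊓ Subgroup.centralizer (A₂ : Set G) : Subgroup G) : Set G) :=
    Cfsg.Agent.Lib.Helper3.BG13T.le_normalizer_inf_centralizer hA₁S
      (hA₁A₂.trans (Subgroup.centralizer_le_normalizer _))
  have hZS0 : Z ≤ Subgroup.normalizer
      ((S ⊓ Subgroup.centralizer (A₂ : Set G) : Subgroup G) : Set G) :=
    Cfsg.Agent.Lib.Helper3.BG13T.le_normalizer_inf_centralizer hZS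
      (hZA₂.trans (Subgroup.centralizer_le_normalizer _))
  have hS0p : IsPGroup p ↥(S ⊓ Subgroup.centralizer (A₂ : Set G)) := hSp.to_le inf_le_left
  have hPS0 : P ≤ S ⊓ Subgroup.centralizer (A₂ : Set G) :=
    le_inf hPS (Subgroup.le_centralizer_iff.1 hA₂P)
  have hc1 : IsCyclic
      ↥((S ⊓ Subgroup.centralizer (A₂ : Set G)) ⊓ Subgroup.centralizer (A₁ : Set G)) := by
    refine hCyc12 _ ?_ (hS0p.to_le inf_le_left)
    refine le_inf ((inf_le_left.trans inf_le_left).trans hSHβ) ?_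
    rw [Subgroup.le_centralizer_iff]
    exact sup_le (Subgroup.le_centralizer_iff.1 inf_le_right)
      (Subgroup.le_centralizer_iff.1 (inf_le_left.trans inf_le_right))
  have hc2 : IsCyclic
      ↥((S ⊓ Subgroup.centralizer (A₂ : Set G)) ⊓ Subgroup.centralizer (Z : Set G)) := by
    refine hCycZ _ ?_ (hS0p.to_le inf_le_left)
    exact le_inf ((inf_le_left.trans inf_le_left).trans hSHβ) inf_le_right
  have hA₁cS0 : A₁ ≤ Subgroup.centralizer
      ((S ⊓ Subgroup.centralizer (A₂ : Set G) : Subgroup G) : Set G) :=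
    hK p r (S ⊓ Subgroup.centralizer (A₂ : Set G)) A₁ Z P hS0p hA₁c hcopA₁p hZcard hrp hZA₁ hfree
      hA₁S0 hZS0 hc1 hc2 hPcard hPS0
      (Subgroup.le_centralizer_iff.1 hA₁P) (Subgroup.le_centralizer_iff.1 hZP)
  have hS0cyc : IsCyclic ↥(S ⊓ Subgroup.centralizer (A₂ : Set G)) := by
    refine hCyc12 _ ?_ hS0p
    refine le_inf (inf_le_left.trans hSHβ) ?_
    rw [Subgroup.le_centralizer_iff]
    exact sup_le hA₁cS0 (Subgroup.le_centralizer_iff.1 inf_le_right)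
  -- transfer to an arbitrary `p`-subgroup of `C_{H_β}(A₂)`
  intro T hT hTp
  have hTHβ : T ≤ Hβ := hT.trans inf_le_left
  have hTA₂ : T ≤ Subgroup.centralizer (A₂ : Set G) := hT.trans inf_le_right
  have hA₂T : A₂ ≤ Subgroup.normalizer (T : Set G) :=
    (Subgroup.le_centralizer_iff.1 hTA₂).trans (Subgroup.centralizer_le_normalizer _)
  have hA₂n : A₂ ≤ Subgroup.normalizer (Hβ : Set G) := hA₂H.trans hHnorm
  obtain ⟨S2, hTS2, hA₂S2⟩ := Cfsg.Agent.S0025.result A₂ Hβ hA₂n hcop₂ (Or.inr hsolv) p T hTHβ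
    hTp hA₂T
  obtain ⟨c, hcA₂, hcS⟩ := Cfsg.Agent.S0024.result A₂ Hβ hA₂n hcop₂ (Or.inr hsolv) p Sy S2
    (hSdef ▸ hA₂S) hA₂S2
  have hmem : ∀ x ∈ T, (c : G)⁻¹ * x * (c : G) ∈ S ⊓ Subgroup.centralizer (A₂ : Set G) := by
    intro x hx
    refine Subgroup.mem_inf.mpr ⟨?_, ?_⟩
    · obtain ⟨y, hy, rfl⟩ := hTS2 hx
      have hy' : y ∈ ((MulAut.conj c • Sy : Sylow p ↥Hβ) : Subgroup ↥Hβ) := hcS ▸ hy
      rw [Sylow.pointwise_smul_def, Subgroup.mem_pointwise_smul_iff_inv_smul_mem] at hy'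
      rw [hSdef]
      refine ⟨(MulAut.conj c)⁻¹ • y, hy', ?_⟩
      simp [MulAut.smul_def]
    · exact Subgroup.mul_mem _ (Subgroup.mul_mem _ (Subgroup.inv_mem _ hcA₂) (hTA₂ hx)) hcA₂
  have hcycI : IsCyclic ↥(S ⊓ Subgroup.centralizer (A₂ : Set G)) := hS0cyc
  let f : ↥T →* ↥(S ⊓ Subgroup.centralizer (A₂ : Set G)) :=
    { toFun := fun x => ⟨(c : G)⁻¹ * x * (c : G), hmem x x.2⟩
      map_one' := by ext; simp
      map_mul' := by intro x y; ext; simp [mul_assoc] }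
  refine isCyclic_of_injective f ?_
  intro x y hxy
  have h1 : (c : G)⁻¹ * x * (c : G) = (c : G)⁻¹ * y * (c : G) := congrArg Subtype.val hxy
  have h2 : (x : G) = y := by
    have h3 := mul_right_cancel h1
    exact mul_left_cancel h3
  exact Subtype.ext h2

end Cfsg.Agent.Lib.Helper15.BG13C
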