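import Mathlib
import Cfsg.Agent.Lib.Helper58.JUDefs
import Cfsg.Agent.Lib.Helper41.Cores
import Cfsg.Agent.Lib.Helper82.JcOCPC
import Cfsg.Agent.Lib.Helper75.JcWF

/-! Project JU (helper58, S2950), piece WB (helper68): the subgroup `WB T K` generated by the
four-groups `W_{K'}`, `K'` in the block of `K`, is a nontrivial 2-group. -/

set_option autoImplicit false

namespace Cfsg.Agent.Lib.Helper68.JU

open Cfsg.Agent.Lib.Helper58.JU Cfsg.Agent.Lib.Helper72.JL Cfsg.Agent.Lib.Helper72.SC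
  Cfsg.Agent.Lib.Helper72.JM Cfsg.Agent.Lib.Helper72.JP Cfsg.Agent.Lib.Helper78.JN
  Cfsg.Agent.Lib.Helper78.Jc

open scoped commutatorElement

universe u

/-- a family of 2-subgroups normalizing each other generates a 2-group -/
theorem juwb_pgroup_sSup {G : Type*} [Group G] [Finite G] (𝒲 : Set (Subgroup G))
    (h2 : ∀ W ∈ 𝒲, IsPGroup 2 ↥W)
    (hn : ∀ W ∈ 𝒲, ∀ W' ∈ 𝒲, W' ≤ Subgroup.normalizer (W : Set G)) :
    IsPGroup 2 ↥(sSup 𝒲) := by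
  have h2f : Fact (Nat.Prime 2) := ⟨Nat.prime_two⟩
  obtain ⟨X, hX⟩ : ∃ X : Subgroup G, X = sSup 𝒲 := ⟨_, rfl⟩
  rw [← hX]
  have hWX : ∀ W ∈ 𝒲, W ≤ X := fun W hW => hX ▸ le_sSup hW
  have hXn : ∀ W ∈ 𝒲, X ≤ Subgroup.normalizer (W : Set G) := by
    intro W hW
    rw [hX]
    exact sSup_le (fun W' hW' => hn W hW W' hW')
  have hP : IsPGroup 2 ↥((Cfsg.pCore 2 ↥X).map X.subtype) :=
    (Cfsg.Agent.Lib.Helper41.pCore_isPGroup 2).map _
  have hW : ∀ W ∈ 𝒲, W ≤ (Cfsg.pCore 2 ↥X).map X.subtype := by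
    intro W hW w hw
    have hn' : (W.subgroupOf X).Normal :=
      (Subgroup.normal_subgroupOf_iff_le_normalizer (hWX W hW)).mpr (hXn W hW)
    have hp : IsPGroup 2 ↥(W.subgroupOf X) := (h2 W hW).comap_subtype
    have hle := Cfsg.Agent.Lib.Helper41.le_pCore (W.subgroupOf X) hp
    exact ⟨⟨w, hWX W hW hw⟩, hle (Subgroup.mem_subgroupOf.mpr hw), rfl⟩
  exact hP.to_le ((le_of_eq hX).trans (sSup_le hW))

theorem juwb_wOf_le {G : Type*} [Group G] [Finite G] (K : Subgroup G) : Cfsg.wOf K ≤ K := by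
  have hOK : Cfsg.pCoreOf 2 K ≤ K := Cfsg.Agent.Lib.Helper82.Jc.pc_le K
  have hKNO : K ≤ Subgroup.normalizer (Cfsg.pCoreOf 2 K : Set G) :=
    Cfsg.Agent.Lib.Helper82.Jc.pc_le_normalizer K
  have hKΩ : K ≤ Subgroup.normalizer (Cfsg.omegaCenterOf (Cfsg.pCoreOf 2 K) : Set G) :=
    hKNO.trans (Cfsg.Agent.Lib.Helper82.Jc.oc_normalizer (Cfsg.pCoreOf 2 K))
  have hWle : Cfsg.wOf K ≤ Cfsg.omegaCenterOf (Cfsg.pCoreOf 2 K) :=
    Cfsg.Agent.Lib.Helper75.Jc.wf_le _ K hKΩ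
  exact hWle.trans ((Cfsg.Agent.Lib.Helper82.Jc.oc_le (Cfsg.pCoreOf 2 K)).trans hOK)

theorem wb (hOrb : OrbStmt.{u}) (hCmg : CmgStmt.{u}) : WbStmt.{u} := by
  intro G _ _ M T K hC
  have h2f : Fact (Nat.Prime 2) := ⟨Nat.prime_two⟩
  have hKOrb : K ∈ Orb T K := by
    refine ⟨1, Subgroup.one_mem _, ?_⟩
    ext g
    simp [cg]
  obtain ⟨hKJ, hKM, hNK, hJN, hKN, h2loc⟩ := hOrb G M T K hC K hKOrb
  have hKBlk : K ∈ Blk T K := ⟨hKOrb, hKN⟩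
  have hWle : Cfsg.wOf K ≤ WB T K := le_sSup ⟨K, hKBlk, rfl⟩
  have hW4 : Nat.card ↥(Cfsg.wOf K) = 4 := hKJ.2.2.2.2.1
  refine ⟨?_, ?_⟩
  · have hNM : ¬ Subgroup.normalizer (Cfsg.wOf K : Set G) ≤ M := fun h => hKM (hKN.trans h)
    obtain ⟨T₀, hT₀2, hT₀ne, hNj, hJeq⟩ := hC.hloc _ h2loc hNM hJN
    have hcomp : ∀ K' : Subgroup G, Cfsg.IsJComponent T K' → Cfsg.IsJComponent T₀ K' := by
      intro K' h
      unfold Cfsg.IsJComponent at h ⊢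
      rw [hJeq]
      exact h
    apply juwb_pgroup_sSup
    · rintro W ⟨K', hK', rfl⟩
      have h4 : Nat.card ↥(Cfsg.wOf K') = 4 := (hOrb G M T K hC K' hK'.1).1.2.2.2.2.1
      exact IsPGroup.of_card (n := 2) (by rw [h4]; norm_num)
    · rintro W ⟨K', hK', rfl⟩ W' ⟨K'', hK'', rfl⟩
      have hJ' := (hOrb G M T K hC K' hK'.1).1
      have hJ'' := (hOrb G M T K hC K'' hK''.1).1
      have h1 : K'' ≤ Subgroup.normalizer (Cfsg.wOf K' : Set G) :=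
        hCmg G hC.hzn T₀ hT₀2 hT₀ne _ hNj K' K'' (hcomp K' hJ') (hcomp K'' hJ'') hK'.2 hK''.2
      exact (juwb_wOf_le K'').trans h1
  · intro hbot
    rw [hbot, le_bot_iff] at hWle
    rw [hWle, Subgroup.card_bot] at hW4
    omega

end Cfsg.Agent.Lib.Helper68.JU
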