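import Mathlib
import Cfsg.Agent.Lib.Helper44.PU3Defs

/-!
# S2784 + S2786, piece PIGEVEN: the norm equation for `q` even
-/

set_option autoImplicit false

namespace Cfsg.Agent.Lib.Helper44.PU3

open Matrix

/-- a field of order `q ^ 2`, `q` even, has characteristic `2` -/
private theorem pu3pigeven_two {F : Type*} [Field F] [Fintype F] {q : ℕ}
    (hF : Fintype.card F = q ^ 2) (hq : Even q) : (2 : F) = 0 := by
  obtain ⟨p, hp⟩ := CharP.exists F
  obtain ⟨e, hpp, hcard⟩ := FiniteField.card F p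
  have h2q : 2 ∣ p ^ (e : ℕ) := by
    rw [← hcard, hF]
    exact dvd_pow hq.two_dvd (by norm_num)
  have h2p : 2 ∣ p := Nat.Prime.dvd_of_dvd_pow Nat.prime_two h2q
  have hp2 : p = 2 := ((Nat.prime_dvd_prime_iff_eq Nat.prime_two hpp).mp h2p).symm
  subst hp2
  have h := CharP.cast_eq_zero F 2
  exact_mod_cast h

theorem pu3_pigeven {F : Type*} [Field F] [Fintype F] (q : ℕ) : PigEvenStmt F q := by
  intro hF hq t ht
  have h2 : (2 : F) = 0 := pu3pigeven_two hF hq
  have hsq_inj : Function.Injective (fun a : F => a ^ 2) := by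
    intro a b hab
    have hab' : a ^ 2 = b ^ 2 := hab
    have h : (a - b) ^ 2 = 0 := by
      linear_combination hab' + (b ^ 2 - a * b) * h2
    exact sub_eq_zero.mp ((pow_eq_zero_iff (two_ne_zero)).mp h)
  have hsq_surj : Function.Surjective (fun a : F => a ^ 2) :=
    Finite.injective_iff_surjective.mp hsq_inj
  obtain ⟨a, ha⟩ := hsq_surj ((t - 1) ^ (q + 1))
  have ha' : a ^ 2 = (t - 1) ^ (q + 1) := ha
  have hfix : ((t - 1) ^ (q + 1)) ^ q = (t - 1) ^ (q + 1) := by
    have hcard : (t - 1) ^ (q ^ 2) = t - 1 := by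
      rw [← hF]
      exact FiniteField.pow_card _
    rw [← pow_mul]
    have e : (q + 1) * q = q ^ 2 + q := by ring
    rw [e, pow_add, hcard, pow_succ']
  have haq : a ^ q = a := by
    apply hsq_inj
    show (a ^ q) ^ 2 = a ^ 2
    rw [← pow_mul, mul_comm, pow_mul, ha', hfix]
  have ha0 : a ≠ 0 := by
    rintro rfl
    rw [zero_pow (by norm_num)] at ha'
    have h1 : t - 1 = 0 := (pow_eq_zero_iff (Nat.succ_ne_zero q)).mp ha'.symm
    apply ht
    rw [sub_eq_zero.mp h1, one_pow]
  refine ⟨a, a, 1, haq, haq, one_pow q, ha0, ha0, one_ne_zero, ?_⟩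
  have e : t - (a + a + 1) = t - 1 - a * 2 := by ring
  rw [e, h2, mul_zero, sub_zero, ← ha']
  linear_combination (a ^ 2) * h2

end Cfsg.Agent.Lib.Helper44.PU3
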