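import Mathlib
import Cfsg.Agent.Lib.Helper72.SCDefs

/-!
# S4394 (project SC, helper72), piece STR1

A `p`-group `P` with an automorphism `y` of prime order `q ≠ p` fixing every proper `y`-invariant
subgroup pointwise is generated by the elements `u⁻¹ * y u`, and its normal subgroups fixed
pointwise by `y` are central.
-/

set_option autoImplicit false

namespace Cfsg.Agent.Lib.Helper68.SC

open Cfsg.Agent.Lib.Helper72.SC

universe u

theorem str1 : Str1Stmt.{u} := by
  intro P _ _ p _ hP y q hq hqp hyq hy1 hK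
  have hp : p.Prime := Fact.out
  have hT : Subgroup.closure {c : P | ∃ u : P, c = u⁻¹ * y u} = ⊤ := by
    by_contra hne
    have hinv : ∀ k ∈ Subgroup.closure {c : P | ∃ u : P, c = u⁻¹ * y u},
        y k ∈ Subgroup.closure {c : P | ∃ u : P, c = u⁻¹ * y u} := by
      intro k hk
      induction hk using Subgroup.closure_induction with
      | mem x hx =>
        obtain ⟨u, rfl⟩ := hx
        apply Subgroup.subset_closure
        exact ⟨y u, by rw [map_mul, map_inv]⟩
      | one =>
        rw [map_one]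
        exact one_mem _
      | mul a b _ _ ha hb =>
        rw [map_mul]
        exact mul_mem ha hb
      | inv a _ ha =>
        rw [map_inv]
        exact inv_mem ha
    have hfix := hK _ hne hinv
    apply hy1
    ext u
    have hc : u⁻¹ * y u ∈ Subgroup.closure {c : P | ∃ u : P, c = u⁻¹ * y u} :=
      Subgroup.subset_closure ⟨u, rfl⟩
    have hyc : y (u⁻¹ * y u) = u⁻¹ * y u := hfix _ hc
    have hpow : ∀ k : ℕ, (y ^ k) u = u * (u⁻¹ * y u) ^ k := by
      intro k
      induction k with
      | zero => simp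
      | succ k ih =>
        rw [pow_succ', MulAut.mul_apply, ih, map_mul, map_pow, hyc, pow_succ' (u⁻¹ * y u) k]
        simp only [mul_assoc, mul_inv_cancel_left]
    have h1 : (u⁻¹ * y u) ^ q = 1 := by
      have h2 := hpow q
      rw [hyq, MulAut.one_apply] at h2
      exact (mul_eq_left.mp h2.symm)
    obtain ⟨k, hk⟩ := hP (u⁻¹ * y u)
    have hd1 : orderOf (u⁻¹ * y u) ∣ q := orderOf_dvd_of_pow_eq_one h1
    have hd2 : orderOf (u⁻¹ * y u) ∣ p ^ k := orderOf_dvd_of_pow_eq_one hk
    have hcop : Nat.Coprime q (p ^ k) :=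
      Nat.Coprime.pow_right k ((Nat.coprime_primes hq hp).mpr hqp)
    have hd3 : orderOf (u⁻¹ * y u) ∣ 1 := by
      have := Nat.dvd_gcd hd1 hd2
      rwa [hcop.gcd_eq_one] at this
    have hc1 : u⁻¹ * y u = 1 := orderOf_eq_one_iff.mp (Nat.dvd_one.mp hd3)
    rw [MulAut.one_apply]
    exact (inv_mul_eq_one.mp hc1).symm
  refine ⟨hT, ?_⟩
  intro N hN hNfix n hn
  rw [Subgroup.mem_center_iff]
  have hle : Subgroup.closure {c : P | ∃ u : P, c = u⁻¹ * y u} ≤ Subgroup.centralizer {n} := by
    rw [Subgroup.closure_le]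
    rintro c ⟨u, rfl⟩
    rw [SetLike.mem_coe, Subgroup.mem_centralizer_iff]
    intro m hm
    rw [Set.mem_singleton_iff] at hm
    subst hm
    have h1 : y (u * m * u⁻¹) = u * m * u⁻¹ := hNfix _ (hN.conj_mem m hn u)
    rw [map_mul, map_mul, map_inv, hNfix m hn] at h1
    have h2 : u⁻¹ * (y u * m * (y u)⁻¹) * y u = u⁻¹ * (u * m * u⁻¹) * y u := by rw [h1]
    simp only [mul_assoc, inv_mul_cancel, mul_one, inv_mul_cancel_left] at h2
    rw [mul_assoc]
    exact h2.symm
  intro g
  have hg : g ∈ Subgroup.centralizer {n} := hle (hT ▸ Subgroup.mem_top g)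
  rw [Subgroup.mem_centralizer_iff] at hg
  exact (hg n rfl).symm

end Cfsg.Agent.Lib.Helper68.SC
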