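import Cfsg.Agent.Lib.Helper4.TPDefs

/-!
# Project TP (S4033, architect helper4), piece RTABS (helper68)

A normal `t`-subgroup `B` with `|B : B ⊓ Z(G)| = t²` and `|B : C_B(x)| = t` for an `s`-element `x`
(`s ≠ t`) contains some `c` outside `C(x)` commuting with `x c x⁻¹`.

Proof: commutators of elements of `B` are central in `G` (`B / (B ⊓ Z(G))` has order `t²`).  Take
`b ∈ B` outside `C(x)` and `c = b⁻¹ (x b x⁻¹)`.  If `x` commuted with `c` then
`x ^ n b x ^ (-n) = b c ^ n`, so `c ^ (orderOf x) = 1` and `c = 1`.  As `B / C_B(x)` has prime order,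
`c = b ^ j u` with `u ∈ C_B(x)`; then `x c x⁻¹ = (b c) ^ j u`, and `a ↦ [a, c]` being a
homomorphism of `B` into the centre, `[x c x⁻¹, c] = [b, c] ^ j [u, c] = [c, c] = 1`.
-/

namespace Cfsg.Agent.Lib.Helper4.TP

universe u

/-- if `x` commutes with `c` and `x b x⁻¹ = b c` then `x ^ n b x ^ (-n) = b c ^ n` -/
theorem rtabs_helper68_conj_pow {G : Type u} [Group G] (x b c : G) (hxc : x * c = c * x)
    (hb : x * b * x⁻¹ = b * c) (n : ℕ) : x ^ n * b * (x ^ n)⁻¹ = b * c ^ n := by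
  induction n with
  | zero => simp
  | succ n ih =>
    have hcn : x * c ^ n * x⁻¹ = c ^ n := by
      have h1 : Commute x (c ^ n) := (show Commute x c from hxc).pow_right n
      rw [h1.eq, mul_inv_cancel_right]
    calc x ^ (n + 1) * b * (x ^ (n + 1))⁻¹ = x * (x ^ n * b * (x ^ n)⁻¹) * x⁻¹ := by
          rw [pow_succ']; group
      _ = x * (b * c ^ n) * x⁻¹ := by rw [ih]
      _ = (x * b * x⁻¹) * (x * c ^ n * x⁻¹) := by group
      _ = b * c ^ (n + 1) := by rw [hb, hcn, pow_succ', mul_assoc]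

theorem rtabs : RTAbsStmt.{u} := by
  intro G _ _ t s ht hs hst B x hBn hBt hxs hBZ hB1
  obtain ⟨k, hk⟩ := hxs
  have htf : Fact t.Prime := ⟨ht⟩
  have hmemC : ∀ g : G, g ∈ Cen x ↔ x * g = g * x := by
    intro g
    simp [Cen, Subgroup.mem_centralizer_iff]
  have hZC : Subgroup.center G ≤ Cen x := Subgroup.center_le_centralizer _
  -- an element `b` of `B` outside `C(x)`
  have hnle : ¬ B ≤ Cen x := by
    intro h
    have h1 : (Cen x).relIndex B = 1 := Subgroup.relIndex_eq_one.2 h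
    rw [hB1] at h1
    exact ht.one_lt.ne' h1
  obtain ⟨b, hbB, hbx⟩ := SetLike.not_le_iff_exists.1 hnle
  obtain ⟨c, hcdef⟩ : ∃ c : G, c = b⁻¹ * (x * b * x⁻¹) := ⟨_, rfl⟩
  have hτb : x * b * x⁻¹ = b * c := by rw [hcdef]; group
  have hcB : c ∈ B := by
    rw [hcdef]; exact B.mul_mem (B.inv_mem hbB) (hBn.conj_mem b hbB x)
  -- `c` is not centralized by `x`
  have hcx : c ∉ Cen x := by
    intro hc
    rw [hmemC] at hc
    have h1 := rtabs_helper68_conj_pow x b c hc hτb (orderOf x)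
    rw [pow_orderOf_eq_one, one_mul, inv_one, mul_one] at h1
    have hcn : c ^ orderOf x = 1 := by
      have h2 : b * c ^ orderOf x = b * 1 := by rw [mul_one]; exact h1.symm
      exact mul_left_cancel h2
    obtain ⟨m, hm⟩ := hBt ⟨c, hcB⟩
    have hm' : c ^ t ^ m = 1 := by simpa using congrArg Subtype.val hm
    have hcop : Nat.Coprime (orderOf x) (t ^ m) := by
      rw [hk]; exact Nat.Coprime.pow k m ((Nat.coprime_primes hs ht).2 hst)
    have hc1 : c = 1 := (pow_eq_one_iff_of_coprime hcop).1 ⟨hcn, hm'⟩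
    apply hbx
    rw [hmemC]
    rw [hc1, mul_one] at hτb
    calc x * b = (x * b * x⁻¹) * x := by group
      _ = b * x := by rw [hτb]
  refine ⟨c, hcB, hcx, ?_⟩
  -- commutators of elements of `B` are central
  have hcardZ : Nat.card (↥B ⧸ (Subgroup.center G).subgroupOf B) = t ^ 2 := by
    rw [← Subgroup.index_eq_card]; exact hBZ
  have hcomm := (IsPGroup.isMulCommutative_of_card_eq_prime_sq (p := t) hcardZ).is_comm.comm
  have hcen : ∀ a ∈ B, ∀ a' ∈ B, a * a' * a⁻¹ * a'⁻¹ ∈ Subgroup.center G := by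
    intro a ha a' ha'
    have h := hcomm (((⟨a'⁻¹, B.inv_mem ha'⟩ : ↥B) : ↥B ⧸ (Subgroup.center G).subgroupOf B))
      (((⟨a⁻¹, B.inv_mem ha⟩ : ↥B) : ↥B ⧸ (Subgroup.center G).subgroupOf B))
    rw [← QuotientGroup.mk_mul, ← QuotientGroup.mk_mul, QuotientGroup.eq,
      Subgroup.mem_subgroupOf] at h
    have h2 : a * a' * a⁻¹ * a'⁻¹ = (a'⁻¹ * a⁻¹)⁻¹ * (a⁻¹ * a'⁻¹) := by group
    rw [h2]
    exact h
  -- `C_B(x)` is normal in `B`, of prime index
  have hN1 : ((Cen x).subgroupOf B).Normal := by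
    refine ⟨fun u hu a => ?_⟩
    rw [Subgroup.mem_subgroupOf] at hu ⊢
    have hz := hcen a a.2 u u.2
    have e : ((a * u * a⁻¹ : ↥B) : G) = ((a : G) * u * (a : G)⁻¹ * (u : G)⁻¹) * u := by
      simp
    rw [e]
    exact (Cen x).mul_mem (hZC hz) hu
  have hcard1 : Nat.card (↥B ⧸ (Cen x).subgroupOf B) = t := by
    rw [← Subgroup.index_eq_card]; exact hB1
  have hbne : ((⟨b, hbB⟩ : ↥B) : ↥B ⧸ (Cen x).subgroupOf B) ≠ 1 := by
    intro h
    rw [QuotientGroup.eq_one_iff, Subgroup.mem_subgroupOf] at h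
    exact hbx h
  obtain ⟨j, hj⟩ := (Submonoid.mem_powers_iff _ _).1 (mem_powers_of_prime_card (p := t) hcard1 hbne
    (g' := ((⟨c, hcB⟩ : ↥B) : ↥B ⧸ (Cen x).subgroupOf B)))
  obtain ⟨u, hudef⟩ : ∃ u : G, u = (b ^ j)⁻¹ * c := ⟨_, rfl⟩
  have hu : u ∈ Cen x := by
    rw [← QuotientGroup.mk_pow, QuotientGroup.eq, Subgroup.mem_subgroupOf] at hj
    rw [hudef]
    simpa using hj
  have huB : u ∈ B := by
    rw [hudef]; exact B.mul_mem (B.inv_mem (B.pow_mem hbB j)) hcB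
  have hcu : c = b ^ j * u := by rw [hudef]; group
  -- the commutator with `c` as a homomorphism into the centre
  let κ : ↥B →* ↥(Subgroup.center G) :=
    { toFun := fun a => ⟨(a : G) * c * (a : G)⁻¹ * c⁻¹, hcen a a.2 c hcB⟩
      map_one' := by
        apply Subtype.ext
        simp
      map_mul' := by
        intro a a'
        apply Subtype.ext
        have hz : (a' : G) * c * (a' : G)⁻¹ * c⁻¹ ∈ Subgroup.center G := hcen a' a'.2 c hcB
        have hzc := Subgroup.mem_center_iff.1 hz (a : G)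
        have hzw := Subgroup.mem_center_iff.1 hz ((a : G) * c * (a : G)⁻¹ * c⁻¹)
        show ((a : G) * (a' : G)) * c * ((a : G) * (a' : G))⁻¹ * c⁻¹ =
          ((a : G) * c * (a : G)⁻¹ * c⁻¹) * ((a' : G) * c * (a' : G)⁻¹ * c⁻¹)
        calc ((a : G) * (a' : G)) * c * ((a : G) * (a' : G))⁻¹ * c⁻¹
            = ((a : G) * ((a' : G) * c * (a' : G)⁻¹ * c⁻¹)) * (c * (a : G)⁻¹ * c⁻¹) := by group
          _ = (((a' : G) * c * (a' : G)⁻¹ * c⁻¹) * (a : G)) * (c * (a : G)⁻¹ * c⁻¹) := by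
              rw [hzc]
          _ = ((a' : G) * c * (a' : G)⁻¹ * c⁻¹) * ((a : G) * c * (a : G)⁻¹ * c⁻¹) := by group
          _ = ((a : G) * c * (a : G)⁻¹ * c⁻¹) * ((a' : G) * c * (a' : G)⁻¹ * c⁻¹) := hzw.symm }
  have hκ : ∀ a : ↥B, κ a = 1 ↔ (a : G) * c = c * (a : G) := by
    intro a
    constructor
    · intro h
      have h1 : (a : G) * c * (a : G)⁻¹ * c⁻¹ = 1 := congrArg Subtype.val h
      have h2 : (a : G) * c = ((a : G) * c * (a : G)⁻¹ * c⁻¹) * (c * (a : G)) := by group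
      rw [h2, h1, one_mul]
    · intro h
      apply Subtype.ext
      show (a : G) * c * (a : G)⁻¹ * c⁻¹ = 1
      rw [h]
      group
  have hκc : κ ⟨c, hcB⟩ = 1 := (hκ _).2 rfl
  have hcdecomp : (⟨c, hcB⟩ : ↥B) = ⟨b, hbB⟩ ^ j * ⟨u, huB⟩ := by
    apply Subtype.ext
    rw [Subgroup.coe_mul, Subgroup.coe_pow]
    exact hcu
  have hτc : (⟨x * c * x⁻¹, hBn.conj_mem c hcB x⟩ : ↥B) =
      (⟨b, hbB⟩ * ⟨c, hcB⟩) ^ j * ⟨u, huB⟩ := by
    apply Subtype.ext
    rw [Subgroup.coe_mul, Subgroup.coe_pow, Subgroup.coe_mul]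
    show x * c * x⁻¹ = (b * c) ^ j * u
    have hxu : x * u * x⁻¹ = u := by rw [(hmemC u).1 hu, mul_inv_cancel_right]
    calc x * c * x⁻¹ = x * (b ^ j * u) * x⁻¹ := by rw [← hcu]
      _ = (x * b ^ j * x⁻¹) * (x * u * x⁻¹) := by group
      _ = (b * c) ^ j * u := by rw [← conj_pow, hτb, hxu]
  have hfin : κ ⟨x * c * x⁻¹, hBn.conj_mem c hcB x⟩ = 1 := by
    rw [hτc, map_mul, map_pow, map_mul, hκc, mul_one, ← map_pow, ← map_mul, ← hcdecomp, hκc]
  exact (hκ _).1 hfin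

end Cfsg.Agent.Lib.Helper4.TP
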